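import Cfsg.Agent.H71.QGroup.Main

/-!
The row form of the Q-group theorem, given the dihedral Sylow classification.
-/

set_option autoImplicit false

namespace Cfsg.Agent.H71.QGroup

universe u

/-- The row S1216, given `H80.GW.DihedralStatement`. -/
theorem row_of_dihedral (hGW : H80.GW.DihedralStatement.{u}) {H : Type u} [Group H] [Finite H] (S : Sylow 2 H)
    (hS : Cfsg.IsQuasiDihedral (S : Subgroup H) ∨ Cfsg.IsWreathed (S : Subgroup H))
    (hO : Cfsg.oddCore H = ⊥)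
    (hQ : (∃ K : Subgroup H, K.Normal ∧ (∃ a : ℕ, K.index = 2 ^ a) ∧ (∀ M : Subgroup ↥K, M.index ≠ 2) ∧
      (∀ P : Sylow 2 ↥K, ∃ m : ℕ, 1 ≤ m ∧ Nonempty ((P : Subgroup ↥K) ≃* QuaternionGroup (2 ^ m)))) ∧
      (∀ Z₀ : Subgroup H, Z₀ ≤ ((Subgroup.center (S : Subgroup H)).map (S : Subgroup H).subtype) →
        Cfsg.IsWeaklyClosed Z₀ (S : Subgroup H))) :
    ∃ L₀ : Subgroup H, L₀.Normal ∧ (∃ (F : Type) (_ : Field F) (_ : Fintype F), Odd (Fintype.card F) ∧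
        Nonempty (L₀ ≃* Matrix.SpecialLinearGroup (Fin 2) F)) ∧
      ∀ L₁ : Subgroup H, L₁.Normal → (∃ (F : Type) (_ : Field F) (_ : Fintype F), Odd (Fintype.card F) ∧
        Nonempty (L₁ ≃* Matrix.SpecialLinearGroup (Fin 2) F)) → L₁ = L₀ := by
  obtain ⟨⟨K, hK, ⟨a, ha⟩, hK2, hQ'⟩, -⟩ := hQ
  haveI := hK
  exact normal_SL_two hGW S hS hO K ha hK2 hQ'

end Cfsg.Agent.H71.QGroup
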