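import Cfsg.Agent.H25.BrauerSuzuki
import Cfsg.Agent.H25.QuaternionSylow
import Cfsg.Agent.H63.GW.Shape
import Cfsg.Agent.H80.GW.RankOne
import Cfsg.Agent.Cores.PCore

/-!
Core-free groups with quaternion Sylow 2-subgroups: one involution, and what commutes with a
normal subgroup that is not a 2-group.
-/

set_option autoImplicit false
set_option linter.style.haveILetI false

namespace Cfsg.Agent.H71.QGroup

open Subgroup Cfsg.Agent

universe u

variable {K : Type u} [Group K] [Finite K]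

/-- The involution. -/
theorem exists_invol (S : Sylow 2 K) {n : ℕ} (e : (S : Subgroup K) ≃* QuaternionGroup (2 ^ (n + 1)))
    (hO : Cfsg.oddCore K = ⊥) :
    ∃ z ∈ center K, z ≠ 1 ∧ z * z = 1 ∧ ∀ t : K, t * t = 1 → t = 1 ∨ t = z := by
  haveI : Fact (Nat.Prime 2) := ⟨Nat.prime_two⟩
  have hc : Nat.card (center K) = 2 := H25.brauerSuzuki_card_center S e hO
  obtain ⟨⟨z, hz⟩, hz2⟩ := exists_prime_orderOf_dvd_card' (G := center K) 2 (by rw [hc])
  rw [Subgroup.orderOf_mk] at hz2
  have hz1 : z ≠ 1 := fun h => by rw [h, orderOf_one] at hz2; omega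
  have hzz : z * z = 1 := by rw [← pow_two, ← hz2, pow_orderOf_eq_one]
  refine ⟨z, hz, hz1, hzz, fun t ht => ?_⟩
  by_cases ht1 : t = 1
  · exact Or.inl ht1
  right
  have hto : orderOf t = 2 := orderOf_eq_prime (by rw [pow_two, ht]) ht1
  obtain ⟨Q, hQ⟩ := (IsPGroup.of_card (n := 1) (by rw [Nat.card_zpowers, hto, pow_one]) :
    IsPGroup 2 (zpowers t)).exists_le_sylow
  have hzQ : z ∈ (Q : Subgroup K) :=
    (IsPGroup.of_card (n := 1) (by rw [hc, pow_one]) : IsPGroup 2 (center K)).le_sylow_of_normal Q hz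
  obtain ⟨f⟩ : Nonempty ((Q : Subgroup K) ≃* (S : Subgroup K)) := ⟨Sylow.equiv Q S⟩
  obtain ⟨A, z₀, hcyc, hz₀, -, -, hout, -, -, -⟩ := H25.quaternion_facts (f.trans e)
  have hin : ∀ x : (Q : Subgroup K), x * x = 1 → x ∈ A := fun x hx => by
    by_contra h
    exact hz₀ ((hout x h).symm.trans hx)
  let t' : A := ⟨⟨t, hQ (mem_zpowers t)⟩, hin _ (Subtype.ext ht)⟩
  let z' : A := ⟨⟨z, hzQ⟩, hin _ (Subtype.ext hzz)⟩
  have ht' : orderOf t' = 2 := by
    rw [← Subgroup.orderOf_coe, ← Subgroup.orderOf_coe]; exact hto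
  have hz' : orderOf z' = 2 := by
    rw [← Subgroup.orderOf_coe, ← Subgroup.orderOf_coe]; exact hz2
  have heq := H25.eq_of_card_eq_of_isCyclic (zpowers t') (zpowers z')
    (by rw [Nat.card_zpowers, Nat.card_zpowers, ht', hz'])
  obtain ⟨i, hi⟩ := mem_zpowers_iff.1 (heq ▸ mem_zpowers t' : t' ∈ zpowers z')
  have hi' : z ^ i = t := congrArg (fun a : A => ((a : (Q : Subgroup K)) : K)) hi
  rcases Int.emod_two_eq_zero_or_one i with h | h
  · exfalso
    refine ht1 ?_
    rw [← hi', ← zpow_mod_orderOf, hz2, Nat.cast_ofNat, h, zpow_zero]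
  · rw [← hi', ← zpow_mod_orderOf, hz2, Nat.cast_ofNat, h, zpow_one]

/-- The standing data. -/
structure OneInvol (z : K) : Prop where
  cen : z ∈ center K
  ne_one : z ≠ 1
  sq : z * z = 1
  unique : ∀ t : K, t * t = 1 → t = 1 ∨ t = z
  core : Cfsg.oddCore K = ⊥

theorem OneInvol.of_quaternion (S : Sylow 2 K) {n : ℕ}
    (e : (S : Subgroup K) ≃* QuaternionGroup (2 ^ (n + 1))) (hO : Cfsg.oddCore K = ⊥) :
    ∃ z : K, OneInvol z := by
  obtain ⟨z, h1, h2, h3, h4⟩ := exists_invol S e hO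
  exact ⟨z, h1, h2, h3, h4, hO⟩

variable {z : K}

theorem OneInvol.rank_one (h : OneInvol z) : Cfsg.PRankLE 2 1 K := by
  classical
  intro A _ hA2
  refine (Nat.card_le_card_of_injective (fun a : A => decide ((a : K) = z)) ?_).trans (by simp)
  intro a b hab
  rw [decide_eq_decide] at hab
  rcases h.unique a (by rw [← pow_two]; exact hA2 a a.2) with ha | ha <;>
    rcases h.unique b (by rw [← pow_two]; exact hA2 b b.2) with hb | hb
  · exact Subtype.ext (ha.trans hb.symm)
  · exact absurd (ha.symm.trans (hab.2 hb)) h.ne_one.symm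
  · exact absurd (hb.symm.trans (hab.1 ha)) h.ne_one.symm
  · exact Subtype.ext (ha.trans hb.symm)

/-- A normal subgroup that is not a 2-group contains a square root of the involution. -/
theorem OneInvol.exists_sqrt (h : OneInvol z) (N : Subgroup K) [N.Normal] (hN : ¬ IsPGroup 2 N) :
    ∃ v ∈ N, v * v = z := by
  classical
  haveI : Fact (Nat.Prime 2) := ⟨Nat.prime_two⟩
  by_contra hno
  push Not at hno
  apply hN
  have hON : Cfsg.oddCore ↥N = ⊥ := by
    have h1 := le_bot_iff.1 ((Cores.map_pPrimeCore_le_of_normal (p := 2) N).trans h.core.le)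
    exact (Subgroup.map_eq_bot_iff_of_injective _ N.subtype_injective).1 h1
  obtain ⟨R⟩ : Nonempty (Sylow 2 ↥N) := inferInstance
  have hsq : ∀ r : (R : Subgroup ↥N), ((r : N) : K) * (r : N) = 1 := by
    suffices H : ∀ k, ∀ x : K, x ∈ N → x ^ 2 ^ k = 1 → x * x = 1 by
      intro r
      obtain ⟨k, hk⟩ := R.isPGroup' r
      exact H k _ (r : N).2 (congrArg (fun a : (R : Subgroup ↥N) => ((a : N) : K)) hk)
    intro k
    induction k with
    | zero => intro x _ hx; rw [pow_zero, pow_one] at hx; rw [hx, one_mul]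
    | succ k ih =>
      intro x hxN hx
      have hx2 : (x * x) * (x * x) = 1 := by
        refine ih _ (N.mul_mem hxN hxN) ?_
        rw [← pow_two x, ← pow_mul, ← pow_succ', hx]
      rcases h.unique _ hx2 with e | e
      · exact e
      · exact absurd e (hno x hxN)
  haveI : IsCyclic ↥(R : Subgroup ↥N) := by
    by_cases hz : ∃ r : (R : Subgroup ↥N), ((r : N) : K) = z
    · obtain ⟨r, hr⟩ := hz
      refine ⟨r, fun x => ?_⟩
      rcases h.unique _ (hsq x) with e | e
      · exact ⟨0, Subtype.ext (Subtype.ext (by simpa using e.symm))⟩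
      · exact ⟨1, Subtype.ext (Subtype.ext (by simpa using hr.trans e.symm))⟩
    · push Not at hz
      refine ⟨1, fun x => ?_⟩
      rcases h.unique _ (hsq x) with e | e
      · exact ⟨0, Subtype.ext (Subtype.ext (by simpa using e.symm))⟩
      · exact absurd e (hz x)
  exact H63.GW.isPGroup_of_complement hON (H63.GW.hasNormalPComplement_of_cyclic R)

/-- A normal subgroup commuting with `D` lies in the centre when `D` has small centre. -/
theorem OneInvol.le_zpowers_of_commute (h : OneInvol z) {C D : Subgroup K} [C.Normal] [D.Normal]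
    (hD : ¬ IsPGroup 2 D) (hcomm : ∀ c ∈ C, ∀ d ∈ D, c * d = d * c)
    (hDc : ∀ w ∈ D, (∀ d ∈ D, w * d = d * w) → w * w = 1) : ∀ c ∈ C, c = 1 ∨ c = z := by
  haveI : Fact (Nat.Prime 2) := ⟨Nat.prime_two⟩
  obtain ⟨v, hvD, hv⟩ := h.exists_sqrt D hD
  have hzD : z ∈ D := hv ▸ D.mul_mem hvD hvD
  have hno : ¬ ∃ u ∈ C, u * u = z := by
    rintro ⟨u, huC, hu⟩
    have hsq : (u * v⁻¹) * (u * v⁻¹) = 1 := by
      have hc : Commute u v⁻¹ := (show Commute u v from hcomm u huC v hvD).inv_right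
      rw [mul_assoc, ← mul_assoc v⁻¹, ← hc.eq, mul_assoc u, ← mul_inv_rev, hv, ← mul_assoc, hu,
        mul_inv_cancel]
    have huD : u ∈ D := by
      rcases h.unique _ hsq with e | e
      · rw [mul_inv_eq_one] at e; exact e ▸ hvD
      · rw [mul_inv_eq_iff_eq_mul] at e; exact e ▸ D.mul_mem hzD hvD
    exact h.ne_one (hu ▸ hDc u huD (hcomm u huC))
  have hC2 : IsPGroup 2 C := by
    by_contra hC
    exact hno (h.exists_sqrt C hC)
  intro c hc
  obtain ⟨k, hk⟩ := hC2 ⟨c, hc⟩
  have hk' : c ^ 2 ^ k = 1 := congrArg Subtype.val hk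
  suffices H : ∀ k, ∀ x ∈ C, x ^ 2 ^ k = 1 → x * x = 1 from h.unique c (H k c hc hk')
  intro k
  induction k with
  | zero => intro x _ hx; rw [pow_zero, pow_one] at hx; rw [hx, one_mul]
  | succ k ih =>
    intro x hxC hx
    rcases h.unique (x * x) (ih _ (C.mul_mem hxC hxC) (by rw [← pow_two x, ← pow_mul, ← pow_succ', hx])) with e | e
    · exact e
    · exact absurd ⟨x, hxC, e⟩ hno

end Cfsg.Agent.H71.QGroup
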