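import Mathlib

/-!
The 2-subgroups of `Sym(7)`: a coordinate map onto an elementary group of order four which is still
onto on the even part.
-/

set_option autoImplicit false
set_option linter.style.haveILetI false

namespace Cfsg.Agent.H71.QGroup

open Subgroup Equiv

/-- The central involution of the square on `{0,1,2,3}`. -/
def sevA : Perm (Fin 7) := swap 0 1 * swap 2 3

/-- The transposition on `{4,5}`. -/
def sevB : Perm (Fin 7) := swap 4 5

/-- A Sylow 2-subgroup of `Sym(7)`. -/
def sevP : Subgroup (Perm (Fin 7)) := centralizer {sevA, sevB}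

theorem sevP_apply {g : Perm (Fin 7)} (hg : g ∈ sevP) :
    (∀ i, g (sevA i) = sevA (g i)) ∧ ∀ i, g (sevB i) = sevB (g i) := by
  have h1 := mem_centralizer_iff.1 hg sevA (by simp)
  have h2 := mem_centralizer_iff.1 hg sevB (by simp)
  exact ⟨fun i => (DFunLike.congr_fun h1 i).symm, fun i => (DFunLike.congr_fun h2 i).symm⟩

theorem sev_square {g : Perm (Fin 7)} (hg : g ∈ sevP) {i : Fin 7} (hi : sevB i = i)
    (hi' : sevA i ≠ i) : sevB (g i) = g i ∧ sevA (g i) ≠ g i := by
  obtain ⟨h1, h2⟩ := sevP_apply hg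
  refine ⟨by rw [← h2, hi], fun h => hi' (g.injective ?_)⟩
  rw [h1, h]

theorem sev_pair {g : Perm (Fin 7)} (hg : g ∈ sevP) {i : Fin 7} (hi : sevB i ≠ i) :
    sevB (g i) ≠ g i := fun h => hi (g.injective (by rw [(sevP_apply hg).2, h]))

/-- In the second block of the square. -/
def sevHi (i : Fin 7) : Bool := i == 2 || i == 3

/-- The two coordinates. -/
def sevCoord (g : Perm (Fin 7)) : Multiplicative (ZMod 2 × ZMod 2) :=
  Multiplicative.ofAdd (if sevHi (g 0) then 1 else 0, if g 4 = 5 then 1 else 0)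

theorem sevCoord_mul {g h : Perm (Fin 7)} (hg : g ∈ sevP) (hh : h ∈ sevP) :
    sevCoord (g * h) = sevCoord g * sevCoord h := by
  obtain ⟨g1, g2⟩ := sevP_apply hg
  have h0 := sev_square hh (i := 0) (by decide) (by decide)
  have h4 := sev_pair hh (i := 4) (by decide)
  have g0 := sev_square hg (i := 0) (by decide) (by decide)
  have g4 := sev_pair hg (i := 4) (by decide)
  have g20 := sev_square hg (i := 2) (by decide) (by decide)
  have n20 : g 2 ≠ g 0 := fun e => absurd (g.injective e) (by decide)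
  have n21 : g 2 ≠ sevA (g 0) := fun e => absurd (g.injective (e.trans (g1 0).symm)) (by decide)
  have e4 : ((if (g * h) 4 = 5 then 1 else 0) : ZMod 2) =
      (if g 4 = 5 then 1 else 0) + (if h 4 = 5 then 1 else 0) := by
    have key : ∀ j : Fin 7, sevB j ≠ j → ∀ k : Fin 7, sevB k ≠ k →
        ((if (if j = 4 then k else sevB k) = 5 then 1 else 0) : ZMod 2) =
          (if k = 5 then 1 else 0) + (if j = 5 then 1 else 0) := by decide
    have hval : (g * h) 4 = if h 4 = 4 then g 4 else sevB (g 4) := by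
      have key' : ∀ j : Fin 7, sevB j ≠ j → j ≠ 4 → j = sevB 4 := by decide
      by_cases e : h 4 = 4
      · rw [if_pos e, Perm.mul_apply, e]
      · rw [if_neg e, Perm.mul_apply, key' _ h4 e, g2]
    rw [hval]; exact key _ h4 _ g4
  have e0 : ((if sevHi ((g * h) 0) then 1 else 0) : ZMod 2) =
      (if sevHi (g 0) then 1 else 0) + (if sevHi (h 0) then 1 else 0) := by
    have key : ∀ j : Fin 7, sevB j = j → sevA j ≠ j → ∀ k : Fin 7, sevB k = k → sevA k ≠ k →
        ∀ l : Fin 7, sevB l = l → sevA l ≠ l → l ≠ k → l ≠ sevA k →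
        ((if sevHi (if j = 0 then k else if j = 1 then sevA k else if j = 2 then l else sevA l)
            then 1 else 0) : ZMod 2) =
          (if sevHi k then 1 else 0) + (if sevHi j then 1 else 0) := by decide +kernel
    have hval : (g * h) 0 = if h 0 = 0 then g 0 else if h 0 = 1 then sevA (g 0) else
        if h 0 = 2 then g 2 else sevA (g 2) := by
      have key' : ∀ j : Fin 7, sevB j = j → sevA j ≠ j → j ≠ 0 → j ≠ 1 → j ≠ 2 → j = sevA 2 := by decide
      rw [Perm.mul_apply]
      split_ifs with a b c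
      · rw [a]
      · rw [b, ← g1]; rfl
      · rw [c]
      · rw [key' _ h0.1 h0.2 a b c, g1]
    rw [hval]; exact key _ h0.1 h0.2 _ g0.1 g0.2 _ g20.1 g20.2 n20 n21
  simp only [sevCoord, e0, e4]
  rfl

/-- The four generators. -/
def sevWord (v : Bool × Bool × Bool × Bool) : Perm (Fin 7) :=
  (if v.1 then swap 0 1 else 1) * (if v.2.1 then swap 2 3 else 1) *
    (if v.2.2.1 then swap 0 2 * swap 1 3 else 1) * (if v.2.2.2 then swap 4 5 else 1)

theorem sevWord_mem (v : Bool × Bool × Bool × Bool) : sevWord v ∈ sevP := by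
  have key : ∀ v, sevA * sevWord v = sevWord v * sevA ∧ sevB * sevWord v = sevWord v * sevB := by
    decide +kernel
  refine mem_centralizer_iff.2 fun x hx => ?_
  rcases hx with rfl | rfl
  exacts [(key v).1, (key v).2]

theorem card_sevP : Nat.card sevP = 16 := by
  refine le_antisymm ?_ ?_
  · let F : sevP → {t : Fin 7 × Fin 7 × Fin 7 // sevB t.1 = t.1 ∧ sevA t.1 ≠ t.1 ∧
        sevB t.2.1 = t.2.1 ∧ sevA t.2.1 ≠ t.2.1 ∧ t.2.1 ≠ t.1 ∧ t.2.1 ≠ sevA t.1 ∧
        sevB t.2.2 ≠ t.2.2} := fun g => ⟨((g : Perm (Fin 7)) 0, (g : Perm (Fin 7)) 2, (g : Perm (Fin 7)) 4),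
      (sev_square g.2 (i := 0) (by decide) (by decide)).1,
      (sev_square g.2 (i := 0) (by decide) (by decide)).2,
      (sev_square g.2 (i := 2) (by decide) (by decide)).1,
      (sev_square g.2 (i := 2) (by decide) (by decide)).2,
      fun e => absurd ((g : Perm (Fin 7)).injective e) (by decide),
      fun e => absurd ((g : Perm (Fin 7)).injective (e.trans ((sevP_apply g.2).1 0).symm)) (by decide),
      sev_pair g.2 (i := 4) (by decide)⟩
    have hF : Function.Injective F := by
      intro g h e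
      have e' := congrArg Subtype.val e
      simp only [F, Prod.mk.injEq] at e'
      obtain ⟨e0, e2, e4⟩ := e'
      obtain ⟨g1, g2⟩ := sevP_apply g.2
      obtain ⟨k1, k2⟩ := sevP_apply h.2
      have six : ∀ f : Perm (Fin 7), f ∈ sevP → f 6 = 6 := by
        intro f hf
        obtain ⟨f1, f2⟩ := sevP_apply hf
        have key : ∀ j : Fin 7, sevA j = j → sevB j = j → j = 6 := by decide
        refine key _ ?_ ?_
        · rw [← f1]; rfl
        · rw [← f2]; rfl
      refine Subtype.ext (Equiv.ext fun i => ?_)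
      fin_cases i
      · exact e0
      · show (g : Perm (Fin 7)) (sevA 0) = (h : Perm (Fin 7)) (sevA 0); rw [g1, k1, e0]
      · exact e2
      · show (g : Perm (Fin 7)) (sevA 2) = (h : Perm (Fin 7)) (sevA 2); rw [g1, k1, e2]
      · exact e4
      · show (g : Perm (Fin 7)) (sevB 4) = (h : Perm (Fin 7)) (sevB 4); rw [g2, k2, e4]
      · show (g : Perm (Fin 7)) 6 = (h : Perm (Fin 7)) 6; rw [six _ g.2, six _ h.2]
    refine (Nat.card_le_card_of_injective F hF).trans ?_
    rw [Nat.card_eq_fintype_card]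
    decide +kernel
  · have hinj : Function.Injective (fun v => (⟨sevWord v, sevWord_mem v⟩ : sevP)) := by
      have : ∀ v w, sevWord v = sevWord w → v = w := by decide +kernel
      exact fun v w e => this v w (congrArg Subtype.val e)
    have := Nat.card_le_card_of_injective _ hinj
    simpa using this

/-- Coordinates on a 2-subgroup of `Sym(7)`, onto on a subgroup of order eight of even permutations. -/
theorem exists_sev_coord {P : Subgroup (Perm (Fin 7))} (hP : IsPGroup 2 P) {A : Subgroup (Perm (Fin 7))}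
    (hAP : A ≤ P) (hA : A ≤ alternatingGroup (Fin 7)) (hA8 : Nat.card A = 8) :
    ∃ χ : P →* Multiplicative (ZMod 2 × ZMod 2), ∀ v, ∃ p : P, (p : Perm (Fin 7)) ∈ A ∧ χ p = v := by
  haveI : Fact (Nat.Prime 2) := ⟨Nat.prime_two⟩
  have hfac : (Nat.card (Perm (Fin 7))).factorization 2 = 4 := by
    rw [Nat.card_perm, Nat.card_fin, show Nat.factorial 7 = 2 ^ 4 * 315 by rfl,
      Nat.factorization_mul (by norm_num) (by norm_num), Finsupp.add_apply,
      Nat.prime_two.factorization_pow, Finsupp.single_eq_same,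
      Nat.factorization_eq_zero_of_not_dvd (by norm_num : ¬ 2 ∣ 315)]
  let T : Sylow 2 (Perm (Fin 7)) := Sylow.ofCard sevP (by rw [card_sevP, hfac]; rfl)
  obtain ⟨Q, hQ⟩ := hP.exists_le_sylow
  obtain ⟨g, hg⟩ := MulAction.exists_smul_eq (Perm (Fin 7)) Q T
  have hmem : ∀ p ∈ P, g * p * g⁻¹ ∈ sevP := by
    intro p hp
    have hval : (T : Subgroup (Perm (Fin 7))) = (Q : Subgroup (Perm (Fin 7))).map (MulAut.conj g).toMonoidHom := by
      rw [← hg]; rfl
    show g * p * g⁻¹ ∈ (T : Subgroup (Perm (Fin 7)))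
    rw [hval]
    exact ⟨p, hQ hp, rfl⟩
  let χ : P →* Multiplicative (ZMod 2 × ZMod 2) := MonoidHom.mk' (fun p => sevCoord (g * p * g⁻¹))
    (fun p q => by
      rw [← sevCoord_mul (hmem _ p.2) (hmem _ q.2)]
      congr 1
      simp only [Subgroup.coe_mul]; group)
  refine ⟨χ, fun v => ?_⟩
  let A' := A.map (MulAut.conj g).toMonoidHom
  have hA'le : A' ≤ sevP ⊓ alternatingGroup (Fin 7) := by
    rintro _ ⟨a, ha, rfl⟩
    exact ⟨hmem a (hAP ha), (inferInstance : (alternatingGroup (Fin 7)).Normal).conj_mem a (hA ha) g⟩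
  have hlt : Nat.card ↥(sevP ⊓ alternatingGroup (Fin 7)) ≤ 8 := by
    obtain ⟨k, hk⟩ := card_dvd_of_le (inf_le_left : sevP ⊓ alternatingGroup (Fin 7) ≤ sevP)
    rw [card_sevP] at hk
    rcases Nat.lt_or_ge k 2 with h | h
    · exfalso
      have hk1 : k = 1 := by
        have : k ≠ 0 := fun e => by subst e; omega
        omega
      subst hk1
      rw [mul_one] at hk
      have e := eq_of_le_of_card_ge (inf_le_left : sevP ⊓ alternatingGroup (Fin 7) ≤ sevP)
        (by rw [card_sevP]; exact hk.le)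
      have h1 : sevWord (true, false, false, false) ∈ sevP ⊓ alternatingGroup (Fin 7) := e.symm ▸ sevWord_mem _
      have := Perm.mem_alternatingGroup.1 (Subgroup.mem_inf.1 h1).2
      revert this
      decide +kernel
    · nlinarith
  have heq : A' = sevP ⊓ alternatingGroup (Fin 7) := eq_of_le_of_card_ge hA'le (by
    rwa [show Nat.card A' = 8 from
      (Nat.card_congr (equivMapOfInjective A _ (MulAut.conj g).injective).toEquiv).symm.trans hA8])
  have key : ∀ v, ∃ w, Perm.sign (sevWord w) = 1 ∧ sevCoord (sevWord w) = v := by decide +kernel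
  obtain ⟨w, hw1, hw2⟩ := key v
  obtain ⟨a, ha, hae⟩ : sevWord w ∈ A' := heq ▸ ⟨sevWord_mem w, Perm.mem_alternatingGroup.2 hw1⟩
  exact ⟨⟨a, hAP ha⟩, ha, (congrArg sevCoord hae).trans hw2⟩

end Cfsg.Agent.H71.QGroup
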