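import Cfsg.Prelude.Def_CaseTheorems
import Mathlib

/-!
Quasi-dihedral and wreathed 2-groups are generated by two elements and have at least two involutions.
-/

set_option autoImplicit false

namespace Cfsg.Agent.H71.QGroup

open Subgroup

/-- Two generators and two involutions. -/
theorem two_generated {S : Type*} [Group S] [Finite S]
    (h : Cfsg.IsQuasiDihedral S ∨ Cfsg.IsWreathed S) :
    (∃ a b : S, closure ({a, b} : Set S) = ⊤) ∧
      ∃ u v : S, orderOf u = 2 ∧ orderOf v = 2 ∧ u ≠ v := by
  classical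
  rcases h with ⟨n, hn, hcard, x, y, hx, hy, hc⟩ | ⟨n, hn, hcard, x, y, z, hx, hxy, hd, hz, hzx⟩
  · have hpow : orderOf (x ^ 2 ^ (n - 1)) = 2 := by
      rw [orderOf_pow_of_dvd (by positivity) (hx ▸ pow_dvd_pow 2 (Nat.sub_le n 1)), hx,
        Nat.pow_div (Nat.sub_le n 1) two_pos, show n - (n - 1) = 1 by omega, pow_one]
    have hyx : y ∉ zpowers x := by
      intro hm
      have hcomm : y * x * y⁻¹ = x := by
        obtain ⟨k, hk⟩ := mem_zpowers_iff.1 hm
        rw [← hk, ((Commute.refl x).zpow_left k).eq, mul_inv_cancel_right]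
      rw [hcomm] at hc
      have h4 : 4 ≤ 2 ^ (n - 1) := le_trans (by norm_num) (Nat.pow_le_pow_right two_pos (show 2 ≤ n - 1 by omega))
      have h1 : x ^ (2 ^ (n - 1) - 2) = 1 := by
        refine mul_right_cancel (b := x) ?_
        rw [← pow_succ, one_mul, show 2 ^ (n - 1) - 2 + 1 = 2 ^ (n - 1) - 1 by omega, ← hc]
      have h2 := orderOf_dvd_of_pow_eq_one h1
      rw [hx] at h2
      have h3 := Nat.le_of_dvd (by omega) h2
      have : 2 ^ (n - 1) ≤ 2 ^ n := Nat.pow_le_pow_right two_pos (Nat.sub_le n 1)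
      omega
    refine ⟨⟨x, y, ?_⟩, y, _, hy, hpow, fun e => hyx (e ▸ pow_mem (mem_zpowers x) _)⟩
    refine eq_top_of_le_card _ ?_
    by_contra hlt
    rw [not_le] at hlt
    have hle : zpowers x ≤ closure ({x, y} : Set S) :=
      zpowers_le.2 (Subgroup.subset_closure (Set.mem_insert _ _))
    obtain ⟨k, hk⟩ := card_dvd_of_le hle
    have h1 : Nat.card (zpowers x) = 2 ^ n := (Nat.card_zpowers x).trans hx
    rw [hk, h1, hcard, pow_succ] at hlt
    have hk1 : k = 1 := by
      have hpos : 0 < k := Nat.pos_of_ne_zero fun e => by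
        subst e; rw [mul_zero] at hk; exact Nat.card_pos.ne' hk
      have := Nat.lt_of_mul_lt_mul_left hlt
      omega
    rw [hk1, mul_one] at hk
    exact hyx ((eq_of_le_of_card_ge hle hk.le).symm ▸ Subgroup.subset_closure (Set.mem_insert_of_mem _ rfl))
  · have hy : orderOf y = 2 ^ n := by
      rw [← hzx, ← hx]
      exact orderOf_injective (MulAut.conj z).toMonoidHom (MulAut.conj z).injective x
    have hp1 : ∀ w : S, orderOf w = 2 ^ n → orderOf (w ^ 2 ^ (n - 1)) = 2 := fun w hw => by
      rw [orderOf_pow_of_dvd (by positivity) (hw ▸ pow_dvd_pow 2 (Nat.sub_le n 1)), hw,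
        Nat.pow_div (Nat.sub_le n 1) two_pos, show n - (n - 1) = 1 by omega, pow_one]
    refine ⟨⟨x, z, ?_⟩, _, _, hp1 x hx, hp1 y hy, ?_⟩
    · refine eq_top_of_le_card _ ?_
      have hcom : Commute x y := hxy
      have hcy : ∀ g ∈ zpowers x, ∀ w ∈ zpowers y, g * w = w * g := by
        intro g hg w hw
        obtain ⟨i, rfl⟩ := mem_zpowers_iff.1 hg
        obtain ⟨j, rfl⟩ := mem_zpowers_iff.1 hw
        exact ((hcom.zpow_left i).zpow_right j).eq
      let f : (zpowers x × zpowers y) →* S :=
        { toFun := fun p => (p.1 : S) * p.2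
          map_one' := by simp
          map_mul' := fun p q => by
            show (p.1 * q.1 : S) * (p.2 * q.2 : S) = (p.1 : S) * p.2 * ((q.1 : S) * q.2)
            rw [mul_assoc, ← mul_assoc (q.1 : S), hcy _ q.1.2 _ p.2.2]; group }
      have hf : Function.Injective f := by
        refine (injective_iff_map_eq_one f).2 ?_
        rintro ⟨⟨a, ha⟩, ⟨b, hb⟩⟩ hab
        have hab' : a * b = 1 := hab
        have ha1 : a = 1 := by
          have : a ∈ zpowers x ⊓ zpowers y :=
            ⟨ha, by rw [eq_inv_of_mul_eq_one_left hab']; exact Subgroup.inv_mem _ hb⟩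
          rw [hd] at this
          exact this
        subst ha1
        rw [one_mul] at hab'
        subst hab'
        rfl
      have hxm : x ∈ closure ({x, z} : Set S) := Subgroup.subset_closure (Set.mem_insert _ _)
      have hzm : z ∈ closure ({x, z} : Set S) := Subgroup.subset_closure (Set.mem_insert_of_mem _ rfl)
      have hym : y ∈ closure ({x, z} : Set S) := hzx ▸ mul_mem (mul_mem hzm hxm) (inv_mem hzm)
      have hrange : f.range ≤ closure ({x, z} : Set S) := by
        rintro _ ⟨p, rfl⟩
        exact mul_mem (zpowers_le.2 hxm p.1.2) (zpowers_le.2 hym p.2.2)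
      have hcr : Nat.card f.range = 2 ^ (2 * n) := by
        rw [← Nat.card_congr (MonoidHom.ofInjective hf).toEquiv, Nat.card_prod, Nat.card_zpowers,
          Nat.card_zpowers, hx, hy, ← pow_add, two_mul]
      have hzf : z ∉ f.range := by
        rintro ⟨⟨⟨a, ha⟩, ⟨b, hb⟩⟩, hab⟩
        have hab' : a * b = z := hab
        obtain ⟨i, rfl⟩ := mem_zpowers_iff.1 ha
        obtain ⟨j, rfl⟩ := mem_zpowers_iff.1 hb
        have hcz : Commute z x := hab' ▸ ((Commute.refl x).zpow_left i).mul_left (hcom.symm.zpow_left j)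
        have hyx : y = x := by rw [← hzx, hcz.eq, mul_inv_cancel_right]
        rw [hyx, inf_idem, zpowers_eq_bot] at hd
        rw [hd, orderOf_one] at hx
        exact absurd hx.symm (Nat.one_lt_pow (by omega) one_lt_two).ne'
      by_contra hlt
      rw [not_le] at hlt
      obtain ⟨k, hk⟩ := card_dvd_of_le hrange
      rw [hk, hcr, hcard, pow_succ] at hlt
      have hk1 : k = 1 := by
        have hpos : 0 < k := Nat.pos_of_ne_zero fun e => by
          subst e; rw [mul_zero] at hk; exact Nat.card_pos.ne' hk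
        have := Nat.lt_of_mul_lt_mul_left hlt
        omega
      rw [hk1, mul_one] at hk
      exact hzf ((eq_of_le_of_card_ge hrange hk.le).symm ▸ hzm)
    · intro e
      have hm : x ^ 2 ^ (n - 1) ∈ zpowers x ⊓ zpowers y :=
        ⟨pow_mem (mem_zpowers x) _, e ▸ pow_mem (mem_zpowers y) _⟩
      rw [hd, mem_bot] at hm
      have := hp1 x hx
      rw [hm, orderOf_one] at this
      omega

/-- A group generated by two elements has no surjection onto an elementary group of order eight. -/
theorem not_surjective_eight {S : Type*} [Group S] {a b : S} (hab : closure ({a, b} : Set S) = ⊤)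
    (f : S →* Multiplicative (ZMod 2 × ZMod 2 × ZMod 2)) : ¬ Function.Surjective f := by
  intro hf
  have key : ∀ u v : Multiplicative (ZMod 2 × ZMod 2 × ZMod 2),
      ∃ w, w ≠ 1 ∧ w ≠ u ∧ w ≠ v ∧ w ≠ u * v := by decide
  have hsq : ∀ u : Multiplicative (ZMod 2 × ZMod 2 × ZMod 2), u * u = 1 := by decide
  have kmul' : ∀ u v : Multiplicative (ZMod 2 × ZMod 2 × ZMod 2),
      ∀ x ∈ ({1, u, v, u * v} : Finset _), ∀ y ∈ ({1, u, v, u * v} : Finset _),
        x * y ∈ ({1, u, v, u * v} : Finset _) := by decide +kernel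
  have kmul : ∀ u v x y : Multiplicative (ZMod 2 × ZMod 2 × ZMod 2),
      (x = 1 ∨ x = u ∨ x = v ∨ x = u * v) → (y = 1 ∨ y = u ∨ y = v ∨ y = u * v) →
      (x * y = 1 ∨ x * y = u ∨ x * y = v ∨ x * y = u * v) := fun u v x y hx hy => by
    simpa using kmul' u v x (by simpa using hx) y (by simpa using hy)
  obtain ⟨w, h1, h2, h3, h4⟩ := key (f a) (f b)
  let T : Subgroup (Multiplicative (ZMod 2 × ZMod 2 × ZMod 2)) :=
    { carrier := {1, f a, f b, f a * f b}
      one_mem' := by simp
      mul_mem' := fun {x y} hx hy => kmul (f a) (f b) x y hx hy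
      inv_mem' := by
        intro x hx
        rwa [inv_eq_of_mul_eq_one_right (hsq x)] }
  have hT : closure ({a, b} : Set S) ≤ T.comap f := by
    rw [closure_le]
    rintro x (rfl | rfl)
    · exact Or.inr (Or.inl rfl)
    · exact Or.inr (Or.inr (Or.inl rfl))
  obtain ⟨s, hs⟩ := hf w
  rw [hab] at hT
  rcases hT (mem_top s) with h | h | h | h <;> rw [hs] at h
  exacts [h1 h, h2 h, h3 h, h4 h]

end Cfsg.Agent.H71.QGroup
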