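import Cfsg.Agent.H71.QGroup.Tools
import Cfsg.Agent.H71.QGroup.Two
import Cfsg.Agent.H71.QGroup.Seven
import Cfsg.Agent.S2119
import Cfsg.Prelude.Def_SporadicB

/-!
The double cover of `A₇` does not occur.
-/

set_option autoImplicit false
set_option linter.style.haveILetI false

namespace Cfsg.Agent.H71.QGroup

open Subgroup Cfsg.Agent
open scoped commutatorElement

universe u

/-- Automorphisms act on the quotient by the centre. -/
noncomputable def autQuotCenter (D : Type u) [Group D] : MulAut D →* MulAut (D ⧸ center D) where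
  toFun α := QuotientGroup.congr (center D) (center D) α (Subgroup.characteristic_iff_map_eq.1 inferInstance α)
  map_one' := by
    refine MulEquiv.ext fun x => ?_
    induction x using QuotientGroup.induction_on with
    | H y => rfl
  map_mul' α β := by
    refine MulEquiv.ext fun x => ?_
    induction x using QuotientGroup.induction_on with
    | H y => rfl

theorem autQuotCenter_mk {D : Type u} [Group D] (α : MulAut D) (y : D) :
    autQuotCenter D α (QuotientGroup.mk y) = QuotientGroup.mk (α y) := rfl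

theorem two_cases : ∀ a t : Multiplicative (ZMod 2), a ≠ 1 → t = 1 ∨ t = a := by decide

variable {H : Type u} [Group H] [Finite H]

/-- The double cover of `A₇` is impossible. -/
theorem no_alt_seven (S : Sylow 2 H)
    (hS : Cfsg.IsQuasiDihedral (S : Subgroup H) ∨ Cfsg.IsWreathed (S : Subgroup H))
    (K : Subgroup H) [K.Normal] (hK2 : ∀ M : Subgroup K, M.index ≠ 2) (z : H)
    (huniq : ∀ t ∈ K, t * t = 1 → t = 1 ∨ t = z)
    (D : Subgroup H) [D.Normal] (hDK : D ≤ K) (hD : ⁅D, D⁆ = D) (hzD : z ∈ D)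
    (hcen : ∀ c ∈ K, (∀ d ∈ D, c * d = d * c) → c = 1 ∨ c = z)
    (hdc : Cfsg.IsNonsplitDoubleCover D ↥(alternatingGroup (Fin 7))) : False := by
  classical
  haveI : Fact (Nat.Prime 2) := ⟨Nat.prime_two⟩
  obtain ⟨hZ, ⟨e⟩, -⟩ := hdc
  let f : D →* alternatingGroup (Fin 7) := e.toMonoidHom.comp (QuotientGroup.mk' (center D))
  have hf : Function.Surjective f := e.surjective.comp (QuotientGroup.mk'_surjective _)
  have hfker : ∀ y : D, f y = 1 ↔ y ∈ center D := fun y => by
    show e (QuotientGroup.mk y) = 1 ↔ _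
    rw [EmbeddingLike.map_eq_one_iff, QuotientGroup.eq_one_iff]
  let c := MulEquiv.ofBijective _ (S2119.result 7 (by norm_num) (by norm_num))
  let σ : H →* Equiv.Perm (Fin 7) := c.symm.toMonoidHom.comp
    ((MulAut.congr e).toMonoidHom.comp ((autQuotCenter D).comp MulAut.conjNormal))
  have hσD : ∀ d : D, σ d = (f d : Equiv.Perm (Fin 7)) := by
    intro d
    show c.symm _ = _
    rw [MulEquiv.symm_apply_eq]
    refine MulEquiv.ext fun v => ?_
    obtain ⟨q, rfl⟩ := e.surjective v
    induction q using QuotientGroup.induction_on with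
    | H y =>
      show e (autQuotCenter D (MulAut.conjNormal (d : H)) (e.symm (e (QuotientGroup.mk y)))) = _
      rw [e.symm_apply_apply, autQuotCenter_mk]
      refine Subtype.ext ?_
      have h1 : (MulAut.conjNormal (d : H) : MulAut D) y = d * y * d⁻¹ :=
        Subtype.ext (by simp [MulAut.conjNormal_apply])
      rw [h1]
      show ((f (d * y * d⁻¹)) : Equiv.Perm (Fin 7)) =
        ((MulAut.conjNormal (f d : Equiv.Perm (Fin 7)) : MulAut (alternatingGroup (Fin 7))) (f y) : Equiv.Perm (Fin 7))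
      rw [MulAut.conjNormal_apply, map_mul, map_mul, map_inv]
      rfl
  have hker : ∀ h : H, σ h = 1 → ∀ y ∈ D, h * y = y * h := by
    intro h hh
    have h1 : autQuotCenter D (MulAut.conjNormal h) = 1 := by
      have h2 : (MulAut.congr e) (autQuotCenter D (MulAut.conjNormal h)) = 1 :=
        c.symm.injective (hh.trans (map_one _).symm)
      exact (MulAut.congr e).injective (h2.trans (map_one _).symm)
    refine commute_of_perfect hD h (fun y hy => (inferInstance : D.Normal).conj_mem y hy h) ?_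
    intro y hy w hw
    have h3 := DFunLike.congr_fun h1 (QuotientGroup.mk (⟨y, hy⟩ : D))
    rw [autQuotCenter_mk, MulAut.one_apply, eq_comm, QuotientGroup.eq] at h3
    have h4 := congrArg Subtype.val (mem_center_iff.1 h3 ⟨w, hw⟩)
    simp only [Subgroup.coe_mul, Subgroup.coe_inv, MulAut.conjNormal_apply] at h4
    exact h4.symm
  have hKeven : ∀ k ∈ K, σ k ∈ alternatingGroup (Fin 7) := by
    intro k hk
    by_contra hodd
    let g : K →* Equiv.Perm (Fin 7) := σ.comp K.subtype
    refine hK2 ((alternatingGroup (Fin 7)).comap g) (index_eq_two_iff.2 ⟨⟨k, hk⟩, fun b => ?_⟩)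
    simp only [mem_comap, map_mul, mul_mem_iff_of_index_two alternatingGroup.index_eq_two]
    have : g ⟨k, hk⟩ ∉ alternatingGroup (Fin 7) := hodd
    by_cases hb : g b ∈ alternatingGroup (Fin 7) <;> simp [hb, this, Xor]
  have hKD : K ≤ D := by
    intro k hk
    obtain ⟨d, hd⟩ := hf ⟨σ k, hKeven k hk⟩
    have h1 : σ ((d : H)⁻¹ * k) = 1 := by
      rw [map_mul, map_inv, hσD, hd, inv_mul_cancel]
    rcases hcen _ (K.mul_mem (K.inv_mem (hDK d.2)) hk) (hker _ h1) with h | h
    · rw [← inv_mul_eq_one.1 h]; exact d.2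
    · rw [inv_mul_eq_iff_eq_mul] at h; rw [h]; exact D.mul_mem d.2 hzD
  set J := (S : Subgroup H) ⊓ D with hJ
  have hJ16 : Nat.card J = 16 := by
    have hA : Nat.card ↥(alternatingGroup (Fin 7)) = 2520 := by
      rw [nat_card_alternatingGroup]; simp [Nat.factorial]
    have hD' : Nat.card D = 2 ^ 4 * 315 := by
      rw [Subgroup.card_eq_card_quotient_mul_card_subgroup (center D), Nat.card_congr e.toEquiv, hA, hZ]
      norm_num
    rw [hJ, card_sylow_inf, hD', Nat.factorization_mul (by norm_num) (by norm_num), Finsupp.add_apply,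
      Nat.prime_two.factorization_pow, Finsupp.single_eq_same,
      Nat.factorization_eq_zero_of_not_dvd (by norm_num : ¬ 2 ∣ 315)]
    norm_num
  have hCS : ∀ w : D, w ∈ center D → (w : H) ∈ (S : Subgroup H) := by
    intro w hw
    haveI : ((center D).map D.subtype).Normal := inferInstance
    have hp : IsPGroup 2 ((center D).map D.subtype) :=
      (IsPGroup.of_card (n := 1) (by rw [hZ, pow_one]) : IsPGroup 2 (center D)).map _
    exact hp.le_sylow_of_normal S ⟨w, hw, rfl⟩
  set A := J.map σ with hA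
  have hA8 : Nat.card A = 8 := by
    let g : J →* Equiv.Perm (Fin 7) := σ.comp J.subtype
    have hgr : g.range = A := by rw [MonoidHom.range_comp, range_subtype]
    have hgker : ∀ x : J, g x = 1 ↔ (⟨(x : H), x.2.2⟩ : D) ∈ center D := fun x => by
      show σ ((⟨(x : H), x.2.2⟩ : D) : H) = 1 ↔ _
      rw [hσD, OneMemClass.coe_eq_one, hfker]
    have hk2 : Nat.card g.ker = 2 := by
      rw [← hZ]
      exact Nat.card_congr
        { toFun := fun x => ⟨⟨((x : J) : H), (x : J).2.2⟩, (hgker x).1 x.2⟩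
          invFun := fun w => ⟨⟨((w : D) : H), hCS w w.2, (w : D).2⟩,
            (hgker ⟨((w : D) : H), hCS w w.2, (w : D).2⟩).2 w.2⟩
          left_inv := fun x => rfl
          right_inv := fun w => rfl }
    have h1 := Subgroup.card_eq_card_quotient_mul_card_subgroup g.ker
    rw [Nat.card_congr (QuotientGroup.quotientKerEquivRange g).toEquiv, hgr, hk2, hJ16] at h1
    omega
  have hA7 : A ≤ alternatingGroup (Fin 7) := by
    rintro _ ⟨x, hx, rfl⟩
    rw [show x = ((⟨x, hx.2⟩ : D) : H) from rfl, hσD]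
    exact (f ⟨x, hx.2⟩).2
  obtain ⟨χ, hχ⟩ := exists_sev_coord (S.isPGroup'.map σ) (map_mono (f := σ) (inf_le_left : J ≤ _)) hA7 hA8
  obtain ⟨⟨a, b, hab⟩, u, v, hu, hv, huv⟩ := two_generated hS
  let J' : Subgroup (S : Subgroup H) := D.subgroupOf (S : Subgroup H)
  have hJ' : J' ≠ ⊤ := by
    intro htop
    have hSD : ∀ s : (S : Subgroup H), (s : H) ∈ D := fun s =>
      mem_subgroupOf.1 (htop ▸ mem_top s : s ∈ J')
    have hz' : ∀ s : (S : Subgroup H), orderOf s = 2 → (s : H) = z := by
      intro s hs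
      have h2 : (s : H) * s = 1 := by
        have h3 := pow_orderOf_eq_one (s : H)
        rwa [Subgroup.orderOf_coe, hs, pow_two] at h3
      refine (huniq s (hDK (hSD s)) h2).resolve_left fun h => ?_
      rw [← Subgroup.orderOf_coe, h, orderOf_one] at hs
      omega
    exact huv (Subtype.ext ((hz' u hu).trans (hz' v hv).symm))
  haveI : J'.Normal := inferInstance
  obtain ⟨M, hM⟩ := exists_index_two' (S.isPGroup'.to_quotient J') (fun h => hJ'
    (index_eq_one.1 (by rw [Subgroup.index_eq_card, h])))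
  obtain ⟨θ, hθ⟩ := exists_hom_of_index_two
    (show (M.comap (QuotientGroup.mk' J')).index = 2 by
      rw [index_comap_of_surjective M (QuotientGroup.mk'_surjective _), hM])
  obtain ⟨s₀, hs₀⟩ : ∃ s, θ s ≠ 1 := by
    by_contra! hall
    have htop : M.comap (QuotientGroup.mk' J') = ⊤ := eq_top_iff.2 fun s _ => (hθ s).1 (hall s)
    have h2 : (M.comap (QuotientGroup.mk' J')).index = 2 := by
      rw [index_comap_of_surjective M (QuotientGroup.mk'_surjective _), hM]
    rw [htop, index_top] at h2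
    omega
  let Φ : (S : Subgroup H) →* Multiplicative (ZMod 2 × ZMod 2 × ZMod 2) :=
    MonoidHom.mk' (fun s => Multiplicative.ofAdd
      ((Multiplicative.toAdd (χ (σ.subgroupMap (S : Subgroup H) s))).1,
        (Multiplicative.toAdd (χ (σ.subgroupMap (S : Subgroup H) s))).2, Multiplicative.toAdd (θ s)))
      fun x y => by simp only [map_mul]; rfl
  refine not_surjective_eight hab Φ fun w => ?_
  have hJθ : ∀ v : Multiplicative (ZMod 2 × ZMod 2), ∃ j : (S : Subgroup H),
      θ j = 1 ∧ χ (σ.subgroupMap (S : Subgroup H) j) = v := by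
    intro v
    obtain ⟨p, ⟨x, hx, hxp⟩, hp⟩ := hχ v
    refine ⟨⟨x, hx.1⟩, (hθ _).2 ?_, ?_⟩
    · show (QuotientGroup.mk' J' ⟨x, hx.1⟩) ∈ M
      rw [show QuotientGroup.mk' J' ⟨x, hx.1⟩ = 1 from (QuotientGroup.eq_one_iff _).2 hx.2]
      exact one_mem M
    · rw [← hp]; exact congrArg χ (Subtype.ext hxp)
  obtain ⟨⟨w1, w2, w3⟩, rfl⟩ : ∃ t, Multiplicative.ofAdd t = w := ⟨Multiplicative.toAdd w, rfl⟩
  have htwo : ∀ t : Multiplicative (ZMod 2), t = 1 ∨ t = θ s₀ := by
    exact fun t => two_cases _ t hs₀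
  rcases htwo (Multiplicative.ofAdd w3) with h3 | h3
  · obtain ⟨j, hj1, hj2⟩ := hJθ (Multiplicative.ofAdd (w1, w2))
    refine ⟨j, ?_⟩
    show Multiplicative.ofAdd _ = _
    rw [hj1, hj2, ← h3]
    rfl
  · obtain ⟨j, hj1, hj2⟩ := hJθ
      (Multiplicative.ofAdd (w1, w2) * (χ (σ.subgroupMap (S : Subgroup H) s₀))⁻¹)
    refine ⟨j * s₀, ?_⟩
    show Multiplicative.ofAdd _ = _
    rw [θ.map_mul, (σ.subgroupMap (S : Subgroup H)).map_mul, χ.map_mul, hj1, hj2, one_mul,
      inv_mul_cancel_right, ← h3]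
    rfl

end Cfsg.Agent.H71.QGroup
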