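import Cfsg.Agent.H71.QGroup.Solvable
import Cfsg.Agent.H71.QGroup.Seventh

/-!
Core-free Q-groups have a unique normal `SL(2,q)`, given the dihedral Sylow classification.
-/

set_option autoImplicit false
set_option linter.style.haveILetI false

namespace Cfsg.Agent.H71.QGroup

open Subgroup Cfsg.Agent
open scoped commutatorElement

universe u

variable {H : Type u} [Group H] [Finite H]

/-- A normal subgroup isomorphic to `SL(2,q)`, `q` odd. -/
def IsOddSL (L : Subgroup H) : Prop :=
  ∃ (F : Type) (_ : Field F) (_ : Fintype F), Odd (Fintype.card F) ∧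
    Nonempty (L ≃* Matrix.SpecialLinearGroup (Fin 2) F)

theorem IsOddSL.card_cases {L : Subgroup H} (h : IsOddSL L) :
    Nat.card L = 24 ∨ (24 < Nat.card L ∧ ⁅L, L⁆ = L) := by
  obtain ⟨F, iF, iT, hodd, ⟨e⟩⟩ := h
  rcases card_SL_two_cases hodd with ⟨-, h⟩ | ⟨h3, h⟩
  · exact Or.inl ((Nat.card_congr e.toEquiv).trans h)
  · exact Or.inr ⟨by rw [Nat.card_congr e.toEquiv]; exact h, perfect_of_equiv_SL h3 e⟩

theorem IsOddSL.le_of_two_power {L : Subgroup H} (h : IsOddSL L) (K : Subgroup H) [K.Normal] {a : ℕ}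
    (ha : K.index = 2 ^ a) : L ≤ K := by
  obtain ⟨F, iF, iT, hodd, ⟨e⟩⟩ := h
  intro l hl
  have hP : IsPGroup 2 (H ⧸ K) := IsPGroup.of_card (n := a) (by rw [← Subgroup.index_eq_card, ha])
  have h1 := sl_to_two_group hodd hP ((QuotientGroup.mk' K).comp (L.subtype.comp e.symm.toMonoidHom))
    (e ⟨l, hl⟩)
  simp only [MonoidHom.coe_comp, Function.comp_apply, MulEquiv.coe_toMonoidHom,
    MulEquiv.symm_apply_apply, Subgroup.coe_subtype] at h1
  exact (QuotientGroup.eq_one_iff l).1 h1

/-- The quotient of a copy of `SL(2,F)` by its centre is simple. -/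
theorem simple_quot_center {D : Type u} [Group D] {F : Type} [Field F] [Fintype F] (h3 : 3 < Fintype.card F)
    (e : D ≃* Matrix.SpecialLinearGroup (Fin 2) F) : IsSimpleGroup (D ⧸ center D) := by
  haveI : IsSimpleGroup (Matrix.ProjectiveSpecialLinearGroup (Fin 2) F) :=
    Matrix.ProjectiveSpecialLinearGroup.rank_two_simple (by rw [Nat.card_eq_fintype_card]; omega)
  let f : (D ⧸ center D) ≃* Matrix.ProjectiveSpecialLinearGroup (Fin 2) F :=
    QuotientGroup.congr (center D) (center _) e (by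
      ext x
      constructor
      · rintro ⟨y, hy, rfl⟩
        exact mem_center_iff.2 fun g => by
          obtain ⟨g', rfl⟩ := e.surjective g
          show e g' * e y = e y * e g'
          rw [← map_mul, ← map_mul, mem_center_iff.1 hy g']
      · intro hx
        refine ⟨e.symm x, mem_center_iff.2 fun g => e.injective ?_, e.apply_symm_apply x⟩
        rw [map_mul, map_mul, e.apply_symm_apply, mem_center_iff.1 hx (e g)])
  exact f.isSimpleGroup_congr.2 inferInstance

/-- The perfect case: uniqueness. -/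
theorem eq_of_perfect {K D : Subgroup H} [K.Normal] [D.Normal] {z : H} (hD : ⁅D, D⁆ = D)
    (hPD : ∀ P : Subgroup H, P ≤ K → ⁅P, P⁆ = P → P ≤ D) {F : Type} [Field F] [Fintype F]
    (h3 : 3 < Fintype.card F) (hodd : Odd (Fintype.card F)) (e : D ≃* Matrix.SpecialLinearGroup (Fin 2) F)
    (hcen : ∀ c ∈ K, (∀ d ∈ D, c * d = d * c) → c = 1 ∨ c = z)
    {L : Subgroup H} [L.Normal] (hL : IsOddSL L) (hLK : L ≤ K) : L = D := by
  classical
  haveI := simple_quot_center h3 e
  have h24 : 24 < Nat.card D := by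
    rw [Nat.card_congr e.toEquiv]
    rcases card_SL_two_cases hodd with ⟨h, -⟩ | ⟨-, h⟩
    · omega
    · exact h
  let M : Subgroup D := L.subgroupOf D
  haveI : (M.map (QuotientGroup.mk' (center D))).Normal :=
    Subgroup.Normal.map inferInstance _ (QuotientGroup.mk'_surjective _)
  rcases (inferInstance : (M.map (QuotientGroup.mk' (center D))).Normal).eq_bot_or_eq_top with hbot | htop
  · exfalso
    have hMc : M ≤ center D := fun m hm => by
      have : QuotientGroup.mk' (center D) m ∈ (⊥ : Subgroup (D ⧸ center D)) := hbot ▸ ⟨m, hm, rfl⟩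
      exact (QuotientGroup.eq_one_iff m).1 (mem_bot.1 this)
    have hL2 : ∀ l ∈ L, l = 1 ∨ l = z := fun l hl => by
      refine hcen l (hLK hl) (commute_of_perfect hD l (fun y hy => (inferInstance : D.Normal).conj_mem y hy l) ?_)
      intro y hy w hw
      have hyD : y⁻¹ * (l * y * l⁻¹) ∈ D := D.mul_mem (D.inv_mem hy) ((inferInstance : D.Normal).conj_mem y hy l)
      have hyL : y⁻¹ * (l * y * l⁻¹) ∈ L := by
        have := L.mul_mem ((inferInstance : L.Normal).conj_mem l hl y⁻¹) (L.inv_mem hl)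
        rw [inv_inv] at this
        rwa [show y⁻¹ * (l * y * l⁻¹) = y⁻¹ * l * y * l⁻¹ by group]
      exact (congrArg Subtype.val (mem_center_iff.1 (hMc (x := ⟨_, hyD⟩) hyL) ⟨w, hw⟩)).symm
    have hcard : Nat.card L ≤ Nat.card Bool := by
      refine Nat.card_le_card_of_injective (fun x : L => decide ((x : H) = z)) fun x y hxy => ?_
      rw [decide_eq_decide] at hxy
      rcases hL2 x x.2 with hx | hx <;> rcases hL2 y y.2 with hy | hy
      · exact Subtype.ext (hx.trans hy.symm)
      · exact Subtype.ext ((hxy.2 hy).trans hy.symm)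
      · exact Subtype.ext (hx.trans (hxy.1 hx).symm)
      · exact Subtype.ext (hx.trans hy.symm)
    rw [Nat.card_eq_fintype_card (α := Bool), Fintype.card_bool] at hcard
    rcases hL.card_cases with h | ⟨h, -⟩ <;> omega
  · have hdec : ∀ d : D, ∃ m ∈ M, ∃ w ∈ center D, m * w = d := fun d => by
      obtain ⟨m, hm, hmd⟩ : QuotientGroup.mk' (center D) d ∈ M.map (QuotientGroup.mk' (center D)) :=
        htop ▸ mem_top _
      refine ⟨m, hm, m⁻¹ * d, ?_, mul_inv_cancel_left m d⟩
      exact QuotientGroup.eq.1 hmd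
    have hDL : D ≤ L := by
      rw [← hD]
      refine commutator_le.2 fun a ha b hb => ?_
      obtain ⟨m, hm, w, hw, hmw⟩ := hdec ⟨a, ha⟩
      obtain ⟨m', hm', w', hw', hmw'⟩ := hdec ⟨b, hb⟩
      have h : ⁅(⟨a, ha⟩ : D), ⟨b, hb⟩⁆ ∈ M := by
        rw [← hmw, ← hmw', commutatorElement_def, H74.Schur.commutatorElement_mul_central hw hw']
        exact mul_mem (mul_mem (mul_mem hm hm') (inv_mem hm)) (inv_mem hm')
      exact h
    rcases hL.card_cases with h | ⟨-, h⟩
    · have := Nat.le_of_dvd Nat.card_pos (card_dvd_of_le hDL)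
      omega
    · exact le_antisymm (hPD L hLK h) hDL

/-- Core-free Q-groups have a unique normal `SL(2,q)`. -/
theorem normal_SL_two (hGW : H80.GW.DihedralStatement.{u}) (S : Sylow 2 H)
    (hS : Cfsg.IsQuasiDihedral (S : Subgroup H) ∨ Cfsg.IsWreathed (S : Subgroup H))
    (hO : Cfsg.oddCore H = ⊥) (K : Subgroup H) [K.Normal] {a : ℕ} (ha : K.index = 2 ^ a)
    (hK2 : ∀ M : Subgroup K, M.index ≠ 2)
    (hQ : ∀ P : Sylow 2 K, ∃ m : ℕ, 1 ≤ m ∧ Nonempty ((P : Subgroup K) ≃* QuaternionGroup (2 ^ m))) :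
    ∃ L₀ : Subgroup H, L₀.Normal ∧ IsOddSL L₀ ∧
      ∀ L₁ : Subgroup H, L₁.Normal → IsOddSL L₁ → L₁ = L₀ := by
  classical
  haveI : Fact (Nat.Prime 2) := ⟨Nat.prime_two⟩
  obtain ⟨SK⟩ : Nonempty (Sylow 2 K) := inferInstance
  obtain ⟨m, hm, ⟨eq⟩⟩ := hQ SK
  obtain ⟨n, rfl⟩ : ∃ n, m = n + 1 := ⟨m - 1, by omega⟩
  have hcore : ∀ N : Subgroup H, N.Normal → Cfsg.oddCore N = ⊥ := fun N hN => by
    haveI := hN
    exact (Subgroup.map_eq_bot_iff_of_injective _ N.subtype_injective).1
      (le_bot_iff.1 ((Cores.map_pPrimeCore_le_of_normal (p := 2) N).trans hO.le))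
  have hOK := hcore K inferInstance
  obtain ⟨z₀, hz₀⟩ := OneInvol.of_quaternion SK eq hOK
  have huniq : ∀ t ∈ K, t * t = 1 → t = 1 ∨ t = (z₀ : H) := fun t ht htt =>
    (hz₀.unique ⟨t, ht⟩ (Subtype.ext htt)).imp (congrArg Subtype.val) (congrArg Subtype.val)
  by_cases hsol : Group.IsSolvable K
  · haveI := hsol
    haveI : Fact (Nat.Prime 3) := ⟨Nat.prime_three⟩
    obtain ⟨h24, ⟨f⟩⟩ := nonempty_SL_three_of_solvable SK eq hOK hK2
    refine ⟨K, inferInstance, ⟨ZMod 3, inferInstance, inferInstance, by rw [ZMod.card]; decide, ⟨f⟩⟩, ?_⟩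
    intro L₁ _ hL
    refine eq_of_le_of_card_ge (hL.le_of_two_power K ha) ?_
    rcases hL.card_cases with h | ⟨h, -⟩ <;> omega
  obtain ⟨D, hDn, hDK, hD, hPD⟩ := exists_residual K
  haveI := hDn
  have hD1 : D ≠ ⊥ := by
    intro hbot
    obtain ⟨W, -, hW1, hWW⟩ := H61.ClassDiam.exists_perfect_normal hsol
    apply hW1
    have hP : ⁅W.map K.subtype, W.map K.subtype⁆ = W.map K.subtype := by rw [← map_commutator, hWW]
    have := hPD _ (map_subtype_le W) hP
    rw [hbot, le_bot_iff, Subgroup.map_eq_bot_iff_of_injective _ K.subtype_injective] at this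
    exact this
  haveI : Group.IsPerfect D := Subgroup.isPerfect_iff.2 hD
  haveI : Nontrivial D := (Subgroup.nontrivial_iff_ne_bot D).2 hD1
  have hOD := hcore D inferInstance
  have hD2 : ¬ IsPGroup 2 D := fun h => Group.IsPerfect.not_isNilpotent (G := D) h.isNilpotent
  have heven : Even (Nat.card D) := by
    by_contra hodd
    have h := Cores.le_oddCore (N := (⊤ : Subgroup D)) (by rw [card_top]; exact Nat.not_even_iff_odd.1 hodd)
    rw [hOD, le_bot_iff] at h
    have h1 : Nat.card D = 1 := by rw [← card_top, h, card_bot]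
    exact hD2 (IsPGroup.of_card (n := 0) (by rw [h1, pow_zero]))
  have hzD : (z₀ : H) ∈ D := by
    obtain ⟨t, ht⟩ := exists_prime_orderOf_dvd_card' (G := D) 2 heven.two_dvd
    have h2 : (t : H) * t = 1 := by
      have h3 := pow_orderOf_eq_one (t : H)
      rwa [Subgroup.orderOf_coe, ht, pow_two] at h3
    rcases huniq t (hDK t.2) h2 with h | h
    · rw [← Subgroup.orderOf_coe, h, orderOf_one] at ht; omega
    · exact h ▸ t.2
  have h1 : Cfsg.PRankLE 2 1 D := by
    intro A _ hA2
    refine (Nat.card_le_card_of_injective (fun x : A => decide (((x : D) : H) = z₀)) ?_).trans (by simp)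
    intro x y hxy
    rw [decide_eq_decide] at hxy
    have hsq : ∀ x : A, ((x : D) : H) * (x : D) = 1 := fun x => by
      rw [← pow_two]; exact congrArg Subtype.val (hA2 x x.2)
    rcases huniq _ (hDK (x : D).2) (hsq x) with hx | hx <;>
      rcases huniq _ (hDK (y : D).2) (hsq y) with hy | hy
    · exact Subtype.ext (Subtype.ext (hx.trans hy.symm))
    · exact Subtype.ext (Subtype.ext ((hxy.2 hy).trans hy.symm))
    · exact Subtype.ext (Subtype.ext (hx.trans (hxy.1 hx).symm))
    · exact Subtype.ext (Subtype.ext (hx.trans hy.symm))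
  have hcen_of : Nat.card (center D) = 2 →
      ∀ c ∈ K, (∀ d ∈ D, c * d = d * c) → c = 1 ∨ c = (z₀ : H) := by
    intro hZ c hc hcd
    haveI : (centralizer (D : Set H)).Normal := inferInstance
    have hD' : ¬ IsPGroup 2 (D.subgroupOf K) := fun h =>
      hD2 (h.of_equiv (subgroupOfEquivOfLe hDK))
    have hw2 : ∀ w ∈ D.subgroupOf K, (∀ d ∈ D.subgroupOf K, w * d = d * w) → w * w = 1 := by
      intro w hw hwd
      have hwc : (⟨(w : H), hw⟩ : D) ∈ center D := mem_center_iff.2 fun d => Subtype.ext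
        (congrArg Subtype.val (hwd ⟨d, hDK d.2⟩ d.2)).symm
      have h2 := congrArg Subtype.val (pow_card_eq_one' (x := (⟨_, hwc⟩ : center D)))
      rw [hZ, pow_two] at h2
      exact Subtype.ext (congrArg Subtype.val h2 :)
    refine (hz₀.le_zpowers_of_commute (C := (centralizer (D : Set H)).subgroupOf K) hD' ?_ hw2 ⟨c, hc⟩
      (mem_centralizer_iff.2 fun d hd => (hcd d hd).symm)).imp (congrArg Subtype.val) (congrArg Subtype.val)
    intro u hu d hd
    exact Subtype.ext (mem_centralizer_iff.1 hu d hd).symm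
  rcases H80.GW.rank_one_core_free hGW hOD heven h1 with ⟨F, iF, iT, hodd, h3, ⟨e⟩⟩ | hdc
  · have hZ : Nat.card (center D) = 2 := by
      rw [Nat.card_congr (Subgroup.centerCongr e).toEquiv, Linear.card_center_SL, Fintype.card_fin]
      obtain ⟨k, hk⟩ := hodd
      rw [hk, show 2 * k + 1 - 1 = 2 * k by omega]
      exact Nat.gcd_eq_left ⟨k, rfl⟩
    refine ⟨D, inferInstance, ⟨F, iF, iT, hodd, ⟨e⟩⟩, fun L₁ hn hL => ?_⟩
    haveI := hn
    exact eq_of_perfect hD hPD h3 hodd e (hcen_of hZ) hL (hL.le_of_two_power K ha)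
  · exact (no_alt_seven S hS K hK2 z₀ huniq D hDK hD hzD (hcen_of hdc.1) hdc).elim

end Cfsg.Agent.H71.QGroup
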