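import Cfsg.Agent.H71.QGroup.Tools

/-!
A solvable core-free group with quaternion Sylow 2-subgroups and no subgroup of index two is `SL(2,3)`.
-/

set_option autoImplicit false
set_option linter.style.haveILetI false

namespace Cfsg.Agent.H71.QGroup

open Subgroup Cfsg.Agent

universe u

variable {K : Type u} [Group K] [Finite K]

/-- Shapes of the quotient by the centre. -/
theorem quot_center_shape (S : Sylow 2 K) {n : ℕ}
    (e : (S : Subgroup K) ≃* QuaternionGroup (2 ^ (n + 1))) (hO : Cfsg.oddCore K = ⊥) :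
    H63.GW.SylowDType (K ⧸ center K) ∧ Cfsg.oddCore (K ⧸ center K) = ⊥ := by
  classical
  haveI : Fact (Nat.Prime 2) := ⟨Nat.prime_two⟩
  have hZ : Nat.card (center K) = 2 := H25.brauerSuzuki_card_center S e hO
  let Q := K ⧸ center K
  let mk : K →* Q := QuotientGroup.mk' (center K)
  let T : Sylow 2 Q := S.mapSurjective (f := mk) (QuotientGroup.mk'_surjective _)
  haveI : NeZero (2 ^ (n + 1)) := ⟨by positivity⟩
  have hT : Nonempty (↥(T : Subgroup Q) ≃* DihedralGroup (2 ^ (n + 1))) := by
    let f : ↥(S : Subgroup K) →* DihedralGroup (2 ^ (n + 1)) :=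
      (H80.GW.quaternionToDihedral _).comp e.toMonoidHom
    let g : ↥(S : Subgroup K) →* ↥(T : Subgroup Q) := mk.subgroupMap (S : Subgroup K)
    have hg : Function.Surjective g := mk.subgroupMap_surjective _
    have hle : g.ker ≤ f.ker := by
      intro x hx
      have hxz : (x : K) ∈ center K := (QuotientGroup.eq_one_iff _).1 (congrArg Subtype.val hx)
      have hx2 : x * x = 1 := by
        refine Subtype.ext ?_
        have := congrArg Subtype.val (pow_card_eq_one' (x := (⟨(x : K), hxz⟩ : center K)))
        rw [hZ, sq] at this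
        exact this
      show H80.GW.quaternionToDihedral _ (e x) = 1
      exact H80.GW.quaternionToDihedral_involution (by rw [← map_mul, hx2, map_one])
    have hfs : Function.Surjective f := (H80.GW.quaternionToDihedral_surjective _).comp e.surjective
    let φ : ↥(T : Subgroup Q) →* DihedralGroup (2 ^ (n + 1)) :=
      g.liftOfSurjective hg ⟨f, hle⟩
    have hφ : ∀ x, φ (g x) = f x := fun x => g.liftOfRightInverse_comp_apply _ _ ⟨f, hle⟩ x
    have hφs : Function.Surjective φ := fun d => by
      obtain ⟨x, rfl⟩ := hfs d; exact ⟨g x, hφ x⟩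
    refine ⟨MulEquiv.ofBijective φ (hφs.bijective_of_nat_card_le ?_)⟩
    have h2 : Nat.card (S : Subgroup K) = 4 * 2 ^ (n + 1) := by
      rw [Nat.card_congr e.toEquiv, Nat.card_eq_fintype_card, QuaternionGroup.card]
    have hkerle : (center K).subgroupOf (S : Subgroup K) ≤ g.ker := by
      intro x hx
      exact Subtype.ext ((QuotientGroup.eq_one_iff _).2 (mem_subgroupOf.1 hx))
    have hzS : center K ≤ (S : Subgroup K) :=
      (IsPGroup.of_card (n := 1) (by rw [hZ, pow_one])).le_sylow_of_normal S
    have h3 : 2 ∣ Nat.card g.ker := by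
      have := card_dvd_of_le hkerle
      rwa [Nat.card_congr (subgroupOfEquivOfLe hzS).toEquiv, hZ] at this
    have h4 := Subgroup.card_eq_card_quotient_mul_card_subgroup g.ker
    rw [Nat.card_congr (QuotientGroup.quotientKerEquivOfSurjective g hg).toEquiv, h2] at h4
    rw [DihedralGroup.nat_card]
    have h5 := Nat.le_of_dvd Nat.card_pos h3
    nlinarith
  refine ⟨H63.GW.sylowDType_of_sylow (P := T)
    (Or.inr ⟨_, le_self_pow₀ one_le_two (Nat.succ_ne_zero n), hT⟩), le_bot_iff.1 fun q hq => ?_⟩
  let N : Subgroup K := (Cfsg.oddCore Q).comap mk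
  have hcardN : Nat.card N = 2 * Nat.card (Cfsg.oddCore Q) := by
    let r : N →* Cfsg.oddCore Q := mk.subgroupComap _
    have hr : Function.Surjective r :=
      MonoidHom.subgroupComap_surjective_of_surjective mk _ (QuotientGroup.mk'_surjective _)
    rw [Subgroup.card_eq_card_quotient_mul_card_subgroup r.ker,
      Nat.card_congr (QuotientGroup.quotientKerEquivOfSurjective r hr).toEquiv, mul_comm]
    congr 1
    have hker : r.ker = (center K).subgroupOf N := by
      ext x
      rw [MonoidHom.mem_ker, mem_subgroupOf, ← QuotientGroup.eq_one_iff]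
      exact ⟨fun h => congrArg Subtype.val h, fun h => Subtype.ext h⟩
    rw [hker, Nat.card_congr (subgroupOfEquivOfLe fun z hz => by
      show z ∈ (Cfsg.oddCore Q).comap mk
      rw [mem_comap]
      rw [show mk z = 1 from (QuotientGroup.eq_one_iff _).2 hz]; exact one_mem _).toEquiv, hZ]
  have hON : Cfsg.oddCore ↥N = ⊥ := by
    haveI : N.Normal := Subgroup.Normal.comap inferInstance mk
    have h := le_bot_iff.1 ((Cores.map_pPrimeCore_le_of_normal (p := 2) N).trans hO.le)
    exact (Subgroup.map_eq_bot_iff_of_injective _ N.subtype_injective).1 h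
  obtain ⟨R⟩ : Nonempty (Sylow 2 ↥N) := inferInstance
  haveI : IsCyclic ↥(R : Subgroup ↥N) := by
    refine isCyclic_of_prime_card (p := 2) ?_
    rw [R.card_eq_multiplicity, hcardN,
      Nat.factorization_mul two_ne_zero Nat.card_pos.ne', Finsupp.add_apply,
      Nat.prime_two.factorization_self,
      Nat.factorization_eq_zero_of_not_dvd fun h =>
        Nat.not_even_iff_odd.2 Cores.odd_card_oddCore (even_iff_two_dvd.2 h), pow_one]
  have hp : IsPGroup 2 ↥N :=
    H63.GW.isPGroup_of_complement hON (H63.GW.hasNormalPComplement_of_cyclic R)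
  have h1' : Nat.card (Cfsg.oddCore Q) = 1 := by
    obtain ⟨j, hj⟩ := hp.exists_card_eq
    have hodd := Cores.odd_card_oddCore (G := Q)
    rw [hcardN] at hj
    refine Nat.eq_one_of_dvd_coprimes (a := 2 ^ j) (b := Nat.card (Cfsg.oddCore Q))
      ((Nat.coprime_two_left.2 hodd).pow_left j) ?_ dvd_rfl
    exact hj ▸ Dvd.intro_left 2 rfl
  rw [card_eq_one.1 h1'] at hq
  exact hq

/-- The solvable case. -/
theorem nonempty_SL_three_of_solvable [Group.IsSolvable K] (S : Sylow 2 K) {n : ℕ}
    (e : (S : Subgroup K) ≃* QuaternionGroup (2 ^ (n + 1))) (hO : Cfsg.oddCore K = ⊥)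
    (h2 : ∀ M : Subgroup K, M.index ≠ 2) :
    Nat.card K = 24 ∧ Nonempty (K ≃* Matrix.SpecialLinearGroup (Fin 2) (ZMod 3)) := by
  classical
  haveI : Fact (Nat.Prime 2) := ⟨Nat.prime_two⟩
  obtain ⟨hD, hOQ⟩ := quot_center_shape S e hO
  have hZ : Nat.card (center K) = 2 := H25.brauerSuzuki_card_center S e hO
  have hcard : Nat.card K = Nat.card (K ⧸ center K) * 2 := by
    rw [Subgroup.card_eq_card_quotient_mul_card_subgroup (center K), hZ]
  have hsurj : ∀ {Z : Type u} [Group Z] (f : K →* Z), Function.Surjective f →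
      ∀ M : Subgroup Z, M.index ≠ 2 := fun f hf M hM =>
    h2 (M.comap f) (by rw [index_comap_of_surjective M hf, hM])
  have hA : Nonempty ((K ⧸ center K) ≃* alternatingGroup (Fin 4)) := by
    rcases H63.GW.solvable_shape hD hOQ with hp | hA | ⟨⟨f⟩⟩
    · exfalso
      obtain ⟨j, hj⟩ := hp.exists_card_eq
      have hpK : IsPGroup 2 K := IsPGroup.of_card (n := j + 1) (by rw [hcard, hj, pow_succ])
      obtain ⟨M, hM⟩ := exists_index_two' hpK (by
        have := Nat.card_pos (α := K ⧸ center K); omega)
      exact h2 M hM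
    · exact hA
    · exfalso
      refine hsurj (QuotientGroup.mk' (center K)) (QuotientGroup.mk'_surjective _)
        ((alternatingGroup (Fin 4)).comap f.toMonoidHom) ?_
      rw [index_comap_of_surjective (alternatingGroup (Fin 4)) (f := f.toMonoidHom) f.surjective]
      exact alternatingGroup.index_eq_two
  obtain ⟨f⟩ := hA
  have h24 : Nat.card K = 24 := by
    rw [hcard, Nat.card_congr f.toEquiv, nat_card_alternatingGroup]
    simp [Nat.factorial]
  refine ⟨h24, ?_⟩
  rcases H25.quaternion_sylow S (n + 1) (Nat.le_add_left 1 n) ⟨e⟩ with hc | ⟨A, B, hB, ⟨g⟩⟩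
  · exfalso
    have hp := H63.GW.isPGroup_of_complement hO hc
    obtain ⟨M, hM⟩ := exists_index_two' hp (by omega)
    exact h2 M hM
  · have hS : Nat.card (Matrix.SpecialLinearGroup (Fin 2) (ZMod 3)) = 24 := by
      rw [Nat.card_eq_fintype_card]; decide
    have h1 := Subgroup.card_eq_card_quotient_mul_card_subgroup (B.subgroupOf A)
    rw [Nat.card_congr g.toEquiv, hS] at h1
    have hle := Nat.le_of_dvd Nat.card_pos (Subgroup.card_subgroup_dvd_card A)
    have hpos : 0 < Nat.card (B.subgroupOf A) := Nat.card_pos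
    have hA' : A = ⊤ := eq_top_of_le_card A (by
      have : 24 * 1 ≤ 24 * Nat.card (B.subgroupOf A) := Nat.mul_le_mul_left 24 hpos
      omega)
    have hB1 : B.subgroupOf A = ⊥ := card_eq_one.1 (by
      rw [hA', Subgroup.card_top, h24] at h1
      subst hA'
      omega)
    exact ⟨(Subgroup.topEquiv.symm.trans (MulEquiv.subgroupCongr hA'.symm)).trans
      (((QuotientGroup.quotientMulEquivOfEq hB1).trans QuotientGroup.quotientBot).symm.trans g)⟩

end Cfsg.Agent.H71.QGroup
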