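import Cfsg.Agent.H71.QGroup.Basic
import Cfsg.Agent.Linear.Generation
import Cfsg.Agent.Linear.Order

/-!
Tools: homomorphisms from `SL(2,q)` to 2-groups, perfect residuals, Sylow subgroups of normal subgroups.
-/

set_option autoImplicit false
set_option linter.style.haveILetI false

namespace Cfsg.Agent.H71.QGroup

open Subgroup Cfsg.Agent
open scoped commutatorElement

universe u

/-- `SL(2,q)`, `q` odd, has no nontrivial homomorphism to a 2-group. -/
theorem sl_to_two_group {F : Type} [Field F] [Fintype F] (hodd : Odd (Fintype.card F)) {P : Type*}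
    [Group P] (hP : IsPGroup 2 P) (f : Matrix.SpecialLinearGroup (Fin 2) F →* P)
    (x : Matrix.SpecialLinearGroup (Fin 2) F) : f x = 1 := by
  haveI : Fact (Nat.Prime 2) := ⟨Nat.prime_two⟩
  refine Linear.transvection_induction (P := fun x => f x = 1) (map_one f) (fun i j hij c => ?_)
    (fun A B hA hB => by rw [map_mul, hA, hB, one_mul]) x
  let g : Multiplicative F →* P :=
    MonoidHom.mk' (fun c => f (Matrix.SpecialLinearGroup.transvection hij (Multiplicative.toAdd c)))
      fun a b => by rw [← map_mul]; exact congrArg f (Matrix.SpecialLinearGroup.transvection_add hij _ _)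
  show g (Multiplicative.ofAdd c) = 1
  obtain ⟨k, hk⟩ := hP (g (Multiplicative.ofAdd c))
  refine orderOf_eq_one_iff.1 (Nat.eq_one_of_dvd_coprimes (a := 2 ^ k) (b := Fintype.card F)
    ((Nat.coprime_two_left.2 hodd).pow_left k) (orderOf_dvd_of_pow_eq_one hk) ?_)
  refine (orderOf_map_dvd g _).trans ((_root_.orderOf_dvd_natCard _).trans (dvd_of_eq ?_))
  rw [Nat.card_congr Multiplicative.toAdd, Nat.card_eq_fintype_card]

/-- Sizes of `SL(2,q)`, `q` odd. -/
theorem card_SL_two_cases {F : Type} [Field F] [Fintype F] (hodd : Odd (Fintype.card F)) :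
    (Fintype.card F = 3 ∧ Nat.card (Matrix.SpecialLinearGroup (Fin 2) F) = 24) ∨
      (3 < Fintype.card F ∧ 24 < Nat.card (Matrix.SpecialLinearGroup (Fin 2) F)) := by
  rw [Linear.card_SL_two]
  have h2 : 2 ≤ Fintype.card F := Fintype.one_lt_card
  obtain ⟨k, hk⟩ := hodd
  rcases eq_or_lt_of_le (show 3 ≤ Fintype.card F by omega) with h | h
  · exact Or.inl ⟨h.symm, by rw [← h]; norm_num⟩
  · refine Or.inr ⟨h, ?_⟩
    have h5 : 5 ≤ Fintype.card F := by omega
    have h3 : 24 ≤ Fintype.card F ^ 2 - 1 := by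
      have := Nat.pow_le_pow_left h5 2
      omega
    calc 24 < 5 * 24 := by norm_num
      _ ≤ _ := Nat.mul_le_mul h5 h3

theorem perfect_of_equiv_SL {G : Type u} [Group G] {L : Subgroup G} {F : Type} [Field F] [Fintype F]
    (h3 : 3 < Fintype.card F) (e : L ≃* Matrix.SpecialLinearGroup (Fin 2) F) : ⁅L, L⁆ = L := by
  have hp : Group.IsPerfect (Matrix.SpecialLinearGroup (Fin 2) F) :=
    ⟨Linear.commutator_SL_eq_top_of_card (Or.inr (by rw [Nat.card_eq_fintype_card]; omega))⟩
  exact Subgroup.isPerfect_iff.1 (Group.IsPerfect.ofSurjective (f := e.symm.toMonoidHom) e.symm.surjective)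

/-- A nontrivial 2-group has a subgroup of index two. -/
theorem exists_index_two' {P : Type*} [Group P] [Finite P] (hP : IsPGroup 2 P) (h1 : Nat.card P ≠ 1) :
    ∃ M : Subgroup P, M.index = 2 := by
  haveI : Fact (Nat.Prime 2) := ⟨Nat.prime_two⟩
  obtain ⟨j, hj⟩ := hP.exists_card_eq
  have hj0 : j ≠ 0 := fun h => h1 (by rw [hj, h, pow_zero])
  obtain ⟨M, hM⟩ := Sylow.exists_subgroup_card_pow_prime 2 (n := j - 1) (G := P)
    (hj ▸ pow_dvd_pow 2 (Nat.sub_le j 1))
  refine ⟨M, ?_⟩
  have h := M.index_mul_card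
  rw [hM, hj, show 2 ^ j = 2 * 2 ^ (j - 1) by rw [← pow_succ']; congr 1; omega] at h
  exact Nat.eq_of_mul_eq_mul_right (by positivity) h

variable {H : Type u} [Group H] [Finite H]

/-- The largest perfect subgroup of a normal subgroup. -/
theorem exists_residual (K : Subgroup H) [K.Normal] :
    ∃ D : Subgroup H, D.Normal ∧ D ≤ K ∧ ⁅D, D⁆ = D ∧ ∀ P : Subgroup H, P ≤ K → ⁅P, P⁆ = P → P ≤ D := by
  classical
  let s : Set (Subgroup H) := {D | D.Normal ∧ D ≤ K ∧ ∀ P : Subgroup H, P ≤ K → ⁅P, P⁆ = P → P ≤ D}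
  have hne : s.Nonempty := ⟨K, inferInstance, le_rfl, fun P hP _ => hP⟩
  obtain ⟨D, ⟨hDn, hDK, hDP⟩, hmin⟩ := Set.exists_min_image s (fun D => Nat.card D) (Set.toFinite _) hne
  haveI := hDn
  refine ⟨D, hDn, hDK, ?_, hDP⟩
  refine eq_of_le_of_card_ge (commutator_le_right D D) (hmin _ ⟨inferInstance, ?_, ?_⟩)
  · exact (commutator_le_right D D).trans hDK
  · intro P hP hPP
    exact hPP.ge.trans (commutator_mono (hDP P hP hPP) (hDP P hP hPP))

/-- A perfect subgroup is centralised by what centralises it modulo its centre. -/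
theorem commute_of_perfect {D : Subgroup H} (hD : ⁅D, D⁆ = D) (h : H)
    (hn : ∀ y ∈ D, h * y * h⁻¹ ∈ D)
    (hc : ∀ y ∈ D, ∀ w ∈ D, Commute (y⁻¹ * (h * y * h⁻¹)) w) : ∀ y ∈ D, h * y = y * h := by
  let a : D → center D := fun y =>
    ⟨⟨(y : H)⁻¹ * (h * y * h⁻¹), D.mul_mem (D.inv_mem y.2) (hn y y.2)⟩,
      mem_center_iff.2 fun w => Subtype.ext (hc y y.2 w w.2).eq.symm⟩
  let φ : D →* center D := MonoidHom.mk' a fun x y => by
    refine Subtype.ext (Subtype.ext ?_)
    show ((x : H) * y)⁻¹ * (h * ((x : H) * y) * h⁻¹) =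
      (x : H)⁻¹ * (h * x * h⁻¹) * ((y : H)⁻¹ * (h * y * h⁻¹))
    have e1 := (hc x x.2 _ (D.inv_mem y.2)).eq
    calc ((x : H) * y)⁻¹ * (h * ((x : H) * y) * h⁻¹)
        = (y : H)⁻¹ * ((x : H)⁻¹ * (h * x * h⁻¹)) * (h * y * h⁻¹) := by group
      _ = (x : H)⁻¹ * (h * x * h⁻¹) * (y : H)⁻¹ * (h * y * h⁻¹) := by rw [e1]
      _ = _ := by group
  have hp : Group.IsPerfect D := Subgroup.isPerfect_iff.2 hD
  intro y hy
  have hle : commutator D ≤ φ.ker := Subgroup.commutator_le.2 fun u _ v _ =>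
    MonoidHom.mem_ker.2 ((map_commutatorElement φ u v).trans (commutatorElement_eq_one_iff_commute.2
      (Subtype.ext (mem_center_iff.1 (φ v).2 ((φ u : center D) : D)))))
  rw [hp.commutator_eq_top] at hle
  have h1 : φ ⟨y, hy⟩ = 1 := MonoidHom.mem_ker.1 (hle (mem_top (⟨y, hy⟩ : D)))
  have h2 : y⁻¹ * (h * y * h⁻¹) = 1 := congrArg (fun t : center D => ((t : D) : H)) h1
  exact mul_inv_eq_iff_eq_mul.1 (inv_mul_eq_one.1 h2).symm

/-- Order of the part of a Sylow subgroup in a normal subgroup. -/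
theorem card_sylow_inf {p : ℕ} [Fact p.Prime] (S : Sylow p H) (D : Subgroup H) [D.Normal] :
    Nat.card ↥((S : Subgroup H) ⊓ D) = p ^ (Nat.card D).factorization p := by
  let g : ↥(S : Subgroup H) →* H ⧸ D := (QuotientGroup.mk' D).comp (S : Subgroup H).subtype
  let T : Sylow p (H ⧸ D) := S.mapSurjective (f := QuotientGroup.mk' D) (QuotientGroup.mk'_surjective _)
  have hr : g.range = (T : Subgroup (H ⧸ D)) := by
    rw [MonoidHom.range_comp, range_subtype]; rfl
  have hk : g.ker = D.subgroupOf (S : Subgroup H) := by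
    ext x
    exact QuotientGroup.eq_one_iff _
  have h1 := Subgroup.card_eq_card_quotient_mul_card_subgroup g.ker
  rw [Nat.card_congr (QuotientGroup.quotientKerEquivRange g).toEquiv, hr, S.card_eq_multiplicity,
    T.card_eq_multiplicity, hk] at h1
  have h2 : Nat.card (D.subgroupOf (S : Subgroup H)) = Nat.card ↥((S : Subgroup H) ⊓ D) := by
    rw [← inf_subgroupOf_left, Nat.card_congr (subgroupOfEquivOfLe inf_le_left).toEquiv]
  rw [h2, Subgroup.card_eq_card_quotient_mul_card_subgroup D,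
    Nat.factorization_mul Nat.card_pos.ne' Nat.card_pos.ne', Finsupp.add_apply, pow_add] at h1
  exact (Nat.eq_of_mul_eq_mul_left (pow_pos (Fact.out : p.Prime).pos _) h1).symm

/-- The sign-like homomorphism of a subgroup of index two. -/
theorem exists_hom_of_index_two {S : Type*} [Group S] {M : Subgroup S} (hM : M.index = 2) :
    ∃ θ : S →* Multiplicative (ZMod 2), ∀ s, θ s = 1 ↔ s ∈ M := by
  classical
  refine ⟨MonoidHom.mk' (fun s => if s ∈ M then 1 else Multiplicative.ofAdd 1) fun a b => ?_, fun s => ?_⟩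
  · by_cases ha : a ∈ M <;> by_cases hb : b ∈ M
    · simp [ha, hb, M.mul_mem ha hb]
    · simp [ha, hb, mul_mem_iff_of_index_two hM]
    · simp [ha, hb, mul_mem_iff_of_index_two hM]
    · simp only [ha, hb, mul_mem_iff_of_index_two hM, iff_self, if_true, if_false]
      decide
  · show (if s ∈ M then _ else _) = (1 : Multiplicative (ZMod 2)) ↔ _
    by_cases hs : s ∈ M
    · simp [hs]
    · simp only [hs, if_false, iff_false]
      decide

end Cfsg.Agent.H71.QGroup
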